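import Cfsg.Agent.H183.KW.Wreath
import Cfsg.Agent.LieClassical.SympCount
import Cfsg.Agent.H653.CycGroup

/-!
# `NoP 5 3 (Sp_4(3))` (helper183, for S4243)

* `eq_one_of_comm` : a matrix of order 5 in `GL_4(3)` commutes with no element of order 3;
* `three_dvd_sylow`, `card_sylow_five`.
-/

set_option autoImplicit false

open Subgroup

namespace Cfsg.Agent.H183.KW

open Matrix
open Cfsg.Agent.H838.KW Cfsg.Agent.H146.KW

section Lin

variable {F : Type*} [Field F] [Fintype F] {n : Type*} [Fintype n] [DecidableEq n]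

/-- fixed vectors -/
def fx (X : Matrix n n F) : Submodule F (n → F) := LinearMap.ker (X - 1).mulVecLin

omit [Fintype F] in
theorem mem_fx {X : Matrix n n F} {v : n → F} : v ∈ fx X ↔ X *ᵥ v = v := by
  unfold fx
  rw [LinearMap.mem_ker, Matrix.mulVecLin_apply, Matrix.sub_mulVec, Matrix.one_mulVec, sub_eq_zero]

theorem card_modEq {X : Matrix n n F} (hX : X ^ 5 = 1) (U : Submodule F (n → F)) (hU : ∀ v ∈ U, X *ᵥ v ∈ U) :
    Nat.card U ≡ Nat.card (U ⊓ fx X : Submodule F (n → F)) [MOD 5] := by
  classical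
  have : Fact (Nat.Prime 5) := ⟨Nat.prime_five⟩
  have := Fintype.ofFinite U
  let f : Function.End U := fun v => ⟨X *ᵥ (v : n → F), hU v v.2⟩
  have hf : ∀ (k : ℕ) (v : U), (((f ^ k) v : U) : n → F) = X ^ k *ᵥ (v : n → F) := by
    intro k
    induction k with
    | zero => intro v; rw [pow_zero, pow_zero, Matrix.one_mulVec]; rfl
    | succ k ih =>
      intro v
      have h1 : (f ^ (k + 1)) v = f ((f ^ k) v) := by
        rw [pow_succ']
        rfl
      rw [h1, pow_succ', ← Matrix.mulVec_mulVec, ← ih]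
  have hf5 : f ^ 5 ^ 1 = 1 := by
    funext v
    apply Subtype.ext
    rw [hf, pow_one, hX, Matrix.one_mulVec]
    rfl
  have h1 := Equiv.Perm.card_fixedPoints_modEq hf5
  rw [← Nat.card_eq_fintype_card, ← Nat.card_eq_fintype_card] at h1
  have h2 : Nat.card f.fixedPoints = Nat.card (U ⊓ fx X : Submodule F (n → F)) :=
    Nat.card_congr
      { toFun := fun v => ⟨((v : U) : n → F), (v : U).2, mem_fx.2 (congrArg Subtype.val v.2)⟩
        invFun := fun v => ⟨⟨(v : n → F), v.2.1⟩, Subtype.ext (mem_fx.1 v.2.2)⟩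
        left_inv := fun _ => rfl
        right_inv := fun _ => rfl }
  rwa [h2] at h1

omit [DecidableEq n] in
/-- the orders of the subspaces -/
theorem card_sub (hF : Fintype.card F = 3) (hn : Fintype.card n = 4) (U : Submodule F (n → F)) :
    (Nat.card U ≡ 1 [MOD 5]) → U = ⊥ ∨ U = ⊤ := by
  intro h
  have h1 : Nat.card U = 3 ^ Module.finrank F U := by
    rw [Module.natCard_eq_pow_finrank (K := F), Nat.card_eq_fintype_card, hF]
  have h2 : Module.finrank F U ≤ 4 := by
    have h3 := Submodule.finrank_le U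
    rwa [Module.finrank_fintype_fun_eq_card, hn] at h3
  rw [h1] at h
  have h3 : Module.finrank F U = 0 ∨ Module.finrank F U = 4 := by
    generalize Module.finrank F U = k at h h2
    interval_cases k
    · exact Or.inl rfl
    · exact absurd h (by decide)
    · exact absurd h (by decide)
    · exact absurd h (by decide)
    · exact Or.inr rfl
  rcases h3 with h3 | h3
  · exact Or.inl (Submodule.finrank_eq_zero.1 h3)
  · right
    apply Submodule.eq_top_of_finrank_eq
    rw [h3, Module.finrank_fintype_fun_eq_card, hn]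

omit [Fintype F] in
theorem eq_one_of_fx {X : Matrix n n F} (h : fx X = ⊤) : X = 1 := by
  have h1 : (X - 1).mulVecLin = 0 := LinearMap.ker_eq_top.1 h
  have h2 : X - 1 = 0 := by
    apply Matrix.toLin'.injective
    rw [map_zero]
    exact h1
  exact sub_eq_zero.1 h2

/-- **no element of order 3 commutes with an element of order 5 of `GL_4(3)`** -/
theorem eq_one_of_comm (hF : Fintype.card F = 3) (hn : Fintype.card n = 4) {X S : Matrix n n F} (hX : X ^ 5 = 1)
    (hX1 : X ≠ 1) (hS : S ^ 3 = 1) (h : X * S = S * X) : S = 1 := by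
  have hchar : CharP F 3 := by
    have h3 : Fact (Nat.Prime 3) := ⟨Nat.prime_three⟩
    exact charP_of_card_eq_prime hF
  -- the fixed vectors of `X`
  have hfX : fx X = ⊥ := by
    have h1 := card_modEq hX ⊤ (fun _ _ => Submodule.mem_top)
    rw [top_inf_eq] at h1
    have h2 : Nat.card (⊤ : Submodule F (n → F)) = 81 := by
      rw [Module.natCard_eq_pow_finrank (K := F), Nat.card_eq_fintype_card, hF, finrank_top,
        Module.finrank_fintype_fun_eq_card, hn]
      norm_num
    rw [h2] at h1
    rcases card_sub hF hn (fx X) (h1.symm.trans (by decide)) with h3 | h3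
    · exact h3
    · exact absurd (eq_one_of_fx h3) hX1
  -- the fixed vectors of `S`
  have h1 := card_modEq hX (fx S) (fun v hv => by
    rw [mem_fx] at hv ⊢
    rw [Matrix.mulVec_mulVec, ← h, ← Matrix.mulVec_mulVec, hv])
  rw [hfX, inf_bot_eq] at h1
  have h2 : Nat.card (⊥ : Submodule F (n → F)) = 1 := Nat.card_unique
  rw [h2] at h1
  rcases card_sub hF hn (fx S) h1 with h3 | h3
  · exfalso
    -- `(S - 1) ^ 3 = 0`
    have h4 : (S - 1) ^ 3 = 0 := by
      have h5 : (S - 1) ^ 3 = S ^ 3 - 1 := by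
        have hc : Commute S 1 := Commute.one_right S
        have h6 : (3 : Matrix n n F) = 0 := by
          have : (3 : F) = 0 := by
            have := CharP.cast_eq_zero F 3
            exact_mod_cast this
          have h7 : (3 : Matrix n n F) = algebraMap F (Matrix n n F) 3 := (map_ofNat _ 3).symm
          rw [h7, this, map_zero]
        calc (S - 1) ^ 3 = S ^ 3 - 3 * S ^ 2 + 3 * S - 1 := by noncomm_ring
          _ = S ^ 3 - 1 := by rw [h6]; simp
      rw [h5, hS, sub_self]
    have hinj : Function.Injective (S - 1).mulVecLin := LinearMap.ker_eq_bot.1 h3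
    have hne : Nonempty n := Fintype.card_pos_iff.1 (by rw [hn]; norm_num)
    have h5 : ∀ v : n → F, v = 0 := by
      intro v
      apply hinj
      apply hinj
      apply hinj
      rw [map_zero, map_zero, map_zero]
      change (S - 1) *ᵥ ((S - 1) *ᵥ ((S - 1) *ᵥ v)) = 0
      rw [Matrix.mulVec_mulVec, Matrix.mulVec_mulVec, show (S - 1) * (S - 1) * (S - 1) = (S - 1) ^ 3 by
        rw [pow_succ, pow_two], h4, Matrix.zero_mulVec]
    have h6 := congrFun (h5 (fun _ => 1)) hne.some
    exact one_ne_zero h6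
  · exact eq_one_of_fx h3

end Lin

section Sp

variable {F : Type} [Field F] [Fintype F]

theorem card_sp_four (hF : Fintype.card F = 3) : Nat.card (symplecticGroup (Fin 2) F) = 51840 := by
  rw [LieClassical.SympCount.card_symplecticGroup, hF]
  rfl

theorem card_sylow_five (hF : Fintype.card F = 3) [Fact (Nat.Prime 5)] (P : Sylow 5 (symplecticGroup (Fin 2) F)) :
    Nat.card P = 5 := by
  rw [P.card_eq_multiplicity, card_sp_four hF]
  have : (51840 : ℕ).factorization 5 = 1 := by
    rw [show (51840 : ℕ) = 5 * 10368 by norm_num, Nat.factorization_mul (by norm_num) (by norm_num), Finsupp.add_apply,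
      Nat.factorization_eq_zero_of_not_dvd (n := 10368) (by norm_num), Nat.Prime.factorization_self Nat.prime_five]
  rw [this, pow_one]

theorem three_dvd_sylow (hF : Fintype.card F = 3) [Fact (Nat.Prime 5)] :
    3 ∣ Nat.card (Sylow 5 (symplecticGroup (Fin 2) F)) := by
  obtain ⟨P⟩ : Nonempty (Sylow 5 (symplecticGroup (Fin 2) F)) := inferInstance
  have hP := card_sylow_five hF P
  have h3 : Fact (Nat.Prime 3) := ⟨Nat.prime_three⟩
  have h1 := (normalizer ((P : Subgroup (symplecticGroup (Fin 2) F)) : Set (symplecticGroup (Fin 2) F))).card_mul_index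
  have h2 : Nat.card (Sylow 5 (symplecticGroup (Fin 2) F)) =
      (normalizer ((P : Subgroup (symplecticGroup (Fin 2) F)) : Set (symplecticGroup (Fin 2) F))).index :=
    P.card_eq_index_normalizer
  rw [← h2, card_sp_four hF] at h1
  have hdvd : (3 : ℕ) ∣ 51840 := by norm_num
  rw [← h1] at hdvd
  rcases (Nat.Prime.dvd_mul Nat.prime_three).1 hdvd with h4 | h4
  swap
  · exact h4
  exfalso
  -- an element of order 5
  obtain ⟨x, hx⟩ := exists_prime_orderOf_dvd_card' (G := P) 5 (by rw [hP])
  -- `3 ∣ |C(P)|`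
  have hle : centralizer ((P : Subgroup (symplecticGroup (Fin 2) F)) : Set (symplecticGroup (Fin 2) F)) ≤
      normalizer ((P : Subgroup (symplecticGroup (Fin 2) F)) : Set (symplecticGroup (Fin 2) F)) :=
    centralizer_le_normalizer _
  have h5 := H653.CycGroup.relIndex_dvd (Q := (P : Subgroup (symplecticGroup (Fin 2) F)))
    (T := normalizer ((P : Subgroup (symplecticGroup (Fin 2) F)) : Set (symplecticGroup (Fin 2) F))) hP le_rfl
  have h6 : Nat.card ↥(centralizer ((P : Subgroup (symplecticGroup (Fin 2) F)) : Set (symplecticGroup (Fin 2) F))) *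
      (centralizer ((P : Subgroup (symplecticGroup (Fin 2) F)) : Set (symplecticGroup (Fin 2) F))).relIndex
        (normalizer ((P : Subgroup (symplecticGroup (Fin 2) F)) : Set (symplecticGroup (Fin 2) F))) =
      Nat.card ↥(normalizer ((P : Subgroup (symplecticGroup (Fin 2) F)) : Set (symplecticGroup (Fin 2) F))) := by
    have h7 := ((centralizer ((P : Subgroup (symplecticGroup (Fin 2) F)) : Set (symplecticGroup (Fin 2) F))).subgroupOf
      (normalizer ((P : Subgroup (symplecticGroup (Fin 2) F)) : Set (symplecticGroup (Fin 2) F)))).card_mul_index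
    rwa [Nat.card_congr (subgroupOfEquivOfLe hle).toEquiv] at h7
  rw [← h6] at h4
  have h7 : (3 : ℕ) ∣ Nat.card
      ↥(centralizer ((P : Subgroup (symplecticGroup (Fin 2) F)) : Set (symplecticGroup (Fin 2) F))) := by
    rcases (Nat.Prime.dvd_mul Nat.prime_three).1 h4 with h8 | h8
    · exact h8
    · exfalso
      have := h8.trans h5
      norm_num at this
  obtain ⟨s, hs⟩ := exists_prime_orderOf_dvd_card' (G := ↥(centralizer ((P : Subgroup (symplecticGroup (Fin 2) F)) :
    Set (symplecticGroup (Fin 2) F)))) 3 h7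
  have hc := mem_centralizer_iff.1 s.2 _ x.2
  have hx5 : ((x : symplecticGroup (Fin 2) F) : Matrix (Fin 2 ⊕ Fin 2) (Fin 2 ⊕ Fin 2) F) ^ 5 = 1 := by
    have h8 : (x : P) ^ 5 = 1 := orderOf_dvd_iff_pow_eq_one.1 hx.dvd
    exact congrArg (fun z : P => ((z : symplecticGroup (Fin 2) F) : Matrix (Fin 2 ⊕ Fin 2) (Fin 2 ⊕ Fin 2) F)) h8
  have hx1 : ((x : symplecticGroup (Fin 2) F) : Matrix (Fin 2 ⊕ Fin 2) (Fin 2 ⊕ Fin 2) F) ≠ 1 := by
    intro h8
    have h9 : x = 1 := Subtype.ext (Subtype.ext h8)
    rw [h9, orderOf_one] at hx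
    norm_num at hx
  have hs3 : ((s : symplecticGroup (Fin 2) F) : Matrix (Fin 2 ⊕ Fin 2) (Fin 2 ⊕ Fin 2) F) ^ 3 = 1 := by
    have h8 : s ^ 3 = 1 := orderOf_dvd_iff_pow_eq_one.1 hs.dvd
    exact congrArg (fun z : ↥(centralizer ((P : Subgroup (symplecticGroup (Fin 2) F)) :
      Set (symplecticGroup (Fin 2) F))) => ((z : symplecticGroup (Fin 2) F) :
        Matrix (Fin 2 ⊕ Fin 2) (Fin 2 ⊕ Fin 2) F)) h8
  have h8 := eq_one_of_comm hF (by rfl) hx5 hx1 hs3
    (congrArg (fun z : symplecticGroup (Fin 2) F => (z : Matrix (Fin 2 ⊕ Fin 2) (Fin 2 ⊕ Fin 2) F)) hc)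
  have h9 : s = 1 := Subtype.ext (Subtype.ext h8)
  rw [h9, orderOf_one] at hs
  norm_num at hs

theorem noP_sp_four (hF : Fintype.card F = 3) [Fact (Nat.Prime 5)] : NoP 5 3 (symplecticGroup (Fin 2) F) := by
  obtain ⟨P⟩ : Nonempty (Sylow 5 (symplecticGroup (Fin 2) F)) := inferInstance
  exact noP_of_prime P (card_sylow_five hF P) (three_dvd_sylow hF)

end Sp

end Cfsg.Agent.H183.KW
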